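import Mathlib
import Cfsg.Prelude.Def_KGroupFacts
import Cfsg.Agent.H545.PQ.Basic

/-!
# Rows for S4232: the groups of Lie type and the primes `p, q` without elements of order `p q`

* `FieldAct S K L` : `Out S` is solvable; a finite cyclic group `Γ` acts on `S`, for the primes `p` outside `K` the elements of
  order `p` of `Γ` are outer and the `p`-part of `|Out S|` divides `|Γ|`, and they fix elements of all orders `s ∈ L`;
* `Pairs S K` : any two different primes of `K` are orders of commuting elements of `S`;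
* `AbSyl S K` : the Sylow `p`-subgroups of `S` are abelian for the primes `p` outside `K`.
-/

set_option autoImplicit false

namespace Cfsg.Agent.H545.LT

open Cfsg.Agent.H545.PQ

universe u v

/-- The field automorphisms. `K`: excluded primes; `L`: orders of fixed elements. -/
structure FieldAct (S : Type u) [Group S] (K L : Set ℕ) : Prop where
  /-- `Out S` is solvable -/
  solv : Group.IsSolvable (Cfsg.Out S)
  /-- the group of field automorphisms -/
  act : ∃ (Γ : Type) (_ : Group Γ) (_ : Finite Γ) (_ : IsCyclic Γ) (Ψ : Γ →* MulAut S),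
    (∀ γ : Γ, (orderOf γ).Prime → orderOf γ ∉ K → Ψ γ ∉ Cfsg.Inn S) ∧
    (∀ p : ℕ, p.Prime → p ∉ K → ∀ k : ℕ, p ^ k ∣ Nat.card (Cfsg.Out S) → p ^ k ∣ Nat.card Γ) ∧
    (∀ γ : Γ, (orderOf γ).Prime → orderOf γ ∉ K → ∀ s ∈ L, ∃ x : S, orderOf x = s ∧ Ψ γ x = x)

/-- Commuting elements of the different prime orders in `K`. -/
def Pairs (S : Type u) [Group S] (K : Set ℕ) : Prop :=
  ∀ p ∈ K, ∀ q ∈ K, p.Prime → q.Prime → p ≠ q → Pair p q S

/-- Abelian Sylow subgroups outside `K`. -/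
def AbSyl (S : Type u) [Group S] (K : Set ℕ) : Prop :=
  ∀ p : ℕ, p.Prime → p ∉ K → ∀ P : Sylow p S, IsMulCommutative (P : Subgroup S)

theorem FieldAct.mono {S : Type u} [Group S] {K K' L L' : Set ℕ} (h : FieldAct S K L) (hK : K ⊆ K') (hL : L' ⊆ L) :
    FieldAct S K' L' := by
  obtain ⟨hs, Γ, i1, i2, i3, Ψ, h1, h2, h3⟩ := h
  exact ⟨hs, Γ, i1, i2, i3, Ψ, fun γ hγ hn => h1 γ hγ (fun hc => hn (hK hc)),
    fun p hp hn => h2 p hp (fun hc => hn (hK hc)),
    fun γ hγ hn s hs => h3 γ hγ (fun hc => hn (hK hc)) s (hL hs)⟩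

/-- Transport of automorphisms. -/
theorem congr_mem_inn {S : Type u} [Group S] {T : Type v} [Group T] (e : S ≃* T) {φ : MulAut S} :
    MulAut.congr e φ ∈ Cfsg.Inn T ↔ φ ∈ Cfsg.Inn S := by
  constructor
  · rintro ⟨t, ht⟩
    refine ⟨e.symm t, ?_⟩
    ext x
    have h1 : MulAut.conj t (e x) = e (φ x) := by
      rw [ht]
      show e (φ (e.symm (e x))) = _
      rw [e.symm_apply_apply]
    rw [MulAut.conj_apply] at h1 ⊢
    apply e.injective
    rw [map_mul, map_mul, map_inv, e.apply_symm_apply, h1]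
  · rintro ⟨s, hs⟩
    refine ⟨e s, ?_⟩
    ext x
    show e s * x * (e s)⁻¹ = e (φ (e.symm x))
    have h1 : φ (e.symm x) = s * e.symm x * s⁻¹ := by rw [← hs, MulAut.conj_apply]
    rw [h1, map_mul, map_mul, map_inv, e.apply_symm_apply]

/-- The isomorphism of outer automorphism groups. -/
theorem nonempty_out {S : Type u} [Group S] {T : Type v} [Group T] (e : S ≃* T) :
    Nonempty (Cfsg.Out S ≃* Cfsg.Out T) := by
  refine ⟨QuotientGroup.congr _ _ (MulAut.congr e) ?_⟩
  ext φ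
  constructor
  · rintro ⟨ψ, hψ, rfl⟩
    exact (congr_mem_inn e).2 hψ
  · intro hφ
    refine ⟨(MulAut.congr e).symm φ, ?_, (MulAut.congr e).apply_symm_apply φ⟩
    rw [← (MulAut.congr e).apply_symm_apply φ] at hφ
    exact (congr_mem_inn e).1 hφ

theorem FieldAct.equiv {S : Type u} [Group S] {T : Type v} [Group T] {K L : Set ℕ} (h : FieldAct S K L)
    (e : S ≃* T) : FieldAct T K L := by
  obtain ⟨hs, Γ, i1, i2, i3, Ψ, h1, h2, h3⟩ := h
  obtain ⟨o⟩ := nonempty_out e
  refine ⟨?_, Γ, i1, i2, i3, (MulAut.congr e).toMonoidHom.comp Ψ, ?_, ?_, ?_⟩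
  · exact Group.isSolvable_of_surjective (f := o.toMonoidHom) o.surjective
  · intro γ hγ hn hc
    exact h1 γ hγ hn ((congr_mem_inn e).1 hc)
  · intro p hp hn k hk
    rw [← Nat.card_congr o.toEquiv] at hk
    exact h2 p hp hn k hk
  · intro γ hγ hn s hs'
    obtain ⟨x, hx, hx'⟩ := h3 γ hγ hn s hs'
    refine ⟨e x, ?_, ?_⟩
    · rw [← hx]; exact orderOf_injective e.toMonoidHom e.injective x
    · show e (Ψ γ (e.symm (e x))) = e x
      rw [e.symm_apply_apply, hx']

theorem Pairs.equiv {S : Type u} [Group S] {T : Type v} [Group T] {K : Set ℕ} (h : Pairs S K) (e : S ≃* T) :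
    Pairs T K := fun p hp q hq hp' hq' hpq => (h p hp q hq hp' hq' hpq).equiv e.symm

theorem Pairs.mono {S : Type u} [Group S] {K K' : Set ℕ} (h : Pairs S K) (hK : K' ⊆ K) : Pairs S K' :=
  fun p hp q hq hp' hq' hpq => h p (hK hp) q (hK hq) hp' hq' hpq

theorem AbSyl.mono {S : Type u} [Group S] {K K' : Set ℕ} (h : AbSyl S K) (hK : K ⊆ K') : AbSyl S K' :=
  fun p hp hn => h p hp (fun hc => hn (hK hc))

/-- Abelian Sylow subgroups pass to subgroups. -/
theorem comm_sylow_of_injective {S : Type u} [Group S] [Finite S] {T : Type v} [Group T] [Finite T] (f : T →* S)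
    (hf : Function.Injective f) {p : ℕ} [Fact p.Prime] (h : ∀ P : Sylow p S, IsMulCommutative (P : Subgroup S))
    (Q : Sylow p T) : IsMulCommutative (Q : Subgroup T) := by
  obtain ⟨P, hP⟩ := (Q.isPGroup'.map f).exists_le_sylow
  have := h P
  refine ⟨⟨fun a b => ?_⟩⟩
  apply Subtype.ext
  apply hf
  have h1 : (⟨f a, hP ⟨a, a.2, rfl⟩⟩ : (P : Subgroup S)) * ⟨f b, hP ⟨b, b.2, rfl⟩⟩ =
      ⟨f b, hP ⟨b, b.2, rfl⟩⟩ * ⟨f a, hP ⟨a, a.2, rfl⟩⟩ := this.is_comm.comm _ _
  have h2 := congrArg Subtype.val h1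
  change f (a : T) * f (b : T) = f (b : T) * f (a : T) at h2
  show f ((a : T) * (b : T)) = f ((b : T) * (a : T))
  rw [map_mul, map_mul, h2]

theorem AbSyl.of_injective {S : Type u} [Group S] [Finite S] {T : Type v} [Group T] [Finite T] {K : Set ℕ}
    (h : AbSyl S K) (f : T →* S) (hf : Function.Injective f) : AbSyl T K := fun p hp hn => by
  have : Fact p.Prime := ⟨hp⟩
  exact comm_sylow_of_injective f hf (h p hp hn)

end Cfsg.Agent.H545.LT
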