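import Mathlib
import Cfsg.Prelude.Def_Sporadic
import Cfsg.Agent.PreUniq.Cases
import Cfsg.Agent.H545.NoPQReduce
import Cfsg.Agent.H545.PQ.Sporadic
import Cfsg.Agent.H545.LT.RowLie

/-!
# Finite groups without elements of order `p q`
-/

set_option autoImplicit false

namespace Cfsg.Agent.H545.LT

open Cfsg Cfsg.Agent.H545.PQ Subgroup

universe u

/-- The rows apply to the groups with a normal subgroup with trivial centralizer. -/
theorem Row.apply {X : Type u} [Group X] [Finite X] {N : Subgroup X} [hN : N.Normal]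
    (hc : centralizer (N : Set X) = ⊥) (hrow : Row N) {p q : ℕ} (hp : p.Prime) (hq : q.Prime) (hpq : p ≠ q)
    (hno : ∀ x : X, orderOf x ≠ p * q) : Concl p q X := by
  have : Fact p.Prime := ⟨hp⟩
  have : Fact q.Prime := ⟨hq⟩
  set f : X →* MulAut N := MulAut.conjNormal with hf
  have hinj : Function.Injective f := by
    rw [injective_iff_map_eq_one]
    intro x hx
    have h1 : x ∈ centralizer (N : Set X) := by
      rw [mem_centralizer_iff]
      intro n hn
      have h2 := congrArg Subtype.val (DFunLike.congr_fun hx ⟨n, hn⟩)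
      change x * n * x⁻¹ = n at h2
      rw [mul_inv_eq_iff_eq_mul] at h2
      exact h2.symm
    rw [hc] at h1
    exact mem_bot.1 h1
  have hfin : Finite (MulAut N) := finite_mulAut
  have e : X ≃* f.range := MonoidHom.ofInjective hinj
  refine concl_of_equiv e (hrow f.range ?_ p q hp hq hpq ?_)
  · rintro _ ⟨n, rfl⟩
    refine ⟨n, ?_⟩
    ext m
    rfl
  · intro g hg
    refine hno (e.symm g) ?_
    rw [← hg]
    exact orderOf_injective e.symm.toMonoidHom e.symm.injective g

theorem almost {X : Type u} [Group X] [Finite X] {N : Subgroup X} [hN : N.Normal]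
    (hc : centralizer (N : Set X) = ⊥) (hs : IsSimpleGroup N) (hk : IsKnownSimple' N) {p q : ℕ} (hp : p.Prime)
    (hq : q.Prime) (hpq : p ≠ q) (hpN : p ∣ Nat.card N) (hqN : q ∣ Nat.card N)
    (hno : ∀ x : X, orderOf x ≠ p * q) : Concl p q X ∨ ((Sporadic.Exc p q ∨ Sporadic.Exc q p) ∧ Spor.IsoM X) := by
  rcases Cfsg.Agent.PreUniq.known_cases hk with h | h | h | h | h
  · exfalso
    have h' : (Nat.card N).Prime := h
    have h1 := (Nat.prime_dvd_prime_iff_eq hp h').1 hpN
    have h2 := (Nat.prime_dvd_prime_iff_eq hq h').1 hqN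
    exact hpq (h1.trans h2.symm)
  · obtain ⟨n, hn, ⟨e⟩⟩ := h
    exact Or.inl (Row.apply hc ((row_alt hn).equiv e.symm) hp hq hpq hno)
  · obtain ⟨r, -, h⟩ := h
    exact Or.inl (Row.apply hc (row_of_lie h) hp hq hpq hno)
  · exact Or.inl (Row.apply hc (row_of_chev (r := 2) (Or.inr (Or.inl ⟨rfl, Or.inr (Or.inr h)⟩))) hp hq hpq hno)
  · exact Sporadic.main hc h hp hq hpq hno

end Cfsg.Agent.H545.LT
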